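import Groth.Agent.Lib.GrCI62.Series
import Mathlib.LinearAlgebra.ExteriorPower.Basis
import Mathlib.LinearAlgebra.Alternating.Uncurry.Fin
import Mathlib.LinearAlgebra.Alternating.Curry
import Mathlib.RingTheory.Ideal.Cotangent
import Mathlib.RingTheory.Smooth.Basic
import Mathlib.RingTheory.Kaehler.Polynomial
import Mathlib.LinearAlgebra.Determinant
import Mathlib.LinearAlgebra.TensorProduct.Basis
import Mathlib.LinearAlgebra.TensorProduct.Prod

/-!
# The determinant of a stably free module is trivial
-/

set_option autoImplicit false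
set_option linter.unusedSectionVars false

noncomputable section

open TensorProduct

namespace Groth.Agent.Lib.Det62

universe u

section Retract

variable (R : Type u) [CommRing R] (M : Type u) [AddCommGroup M] [Module R M]

/-- `⋀^m M → ⋀^(m+1) (M × R)`, wedge with the last basis vector. -/
def up (m : ℕ) : ⋀[R]^m M →ₗ[R] ⋀[R]^(m + 1) (M × R) :=
  exteriorPower.alternatingMapLinearEquiv
    (((exteriorPower.ιMulti R (m + 1) (M := M × R)).curryLeft ((0 : M), (1 : R))).compLinearMap
      (LinearMap.inl R M R))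

/-- The retraction of `up`. -/
def down (m : ℕ) : ⋀[R]^(m + 1) (M × R) →ₗ[R] ⋀[R]^m M :=
  exteriorPower.alternatingMapLinearEquiv
    (AlternatingMap.alternatizeUncurryFin
      ((LinearMap.snd R M R).smulRight ((exteriorPower.ιMulti R m (M := M)).compLinearMap (LinearMap.fst R M R))))

theorem down_up (m : ℕ) : (down R M m).comp (up R M m) = LinearMap.id := by
  refine exteriorPower.linearMap_ext (AlternatingMap.ext fun x => ?_)
  simp only [LinearMap.compAlternatingMap_apply, LinearMap.comp_apply, LinearMap.id_apply, up, down,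
    exteriorPower.alternatingMapLinearEquiv_apply_ιMulti, AlternatingMap.compLinearMap_apply,
    AlternatingMap.curryLeft_apply_apply, AlternatingMap.alternatizeUncurryFin_apply]
  rw [Finset.sum_eq_single 0]
  · simp [Fin.removeNth_zero, Function.comp_def, Matrix.vecCons]
  · intro i _ hi
    obtain ⟨j, rfl⟩ := Fin.exists_succ_eq.mpr hi
    simp [Matrix.vecCons]
  · simp

theorem exists_retract_prod (m : ℕ) : ∀ r : ℕ, ∃ (i : ⋀[R]^m M →ₗ[R] ⋀[R]^(m + r) (M × (Fin r → R)))
    (p : ⋀[R]^(m + r) (M × (Fin r → R)) →ₗ[R] ⋀[R]^m M), p.comp i = LinearMap.id := by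
  intro r
  induction r with
  | zero =>
    refine ⟨exteriorPower.map m (LinearMap.inl R M _), exteriorPower.map m (LinearMap.fst R M _), ?_⟩
    rw [← exteriorPower.map_comp, LinearMap.fst_comp_inl, exteriorPower.map_id]
  | succ r ih =>
    obtain ⟨i, p, hpi⟩ := ih
    let e : ((M × (Fin r → R)) × R) ≃ₗ[R] M × (Fin (r + 1) → R) :=
      (LinearEquiv.prodAssoc R M (Fin r → R) R).trans
        (LinearEquiv.prodCongr (LinearEquiv.refl R M)
          ((LinearEquiv.prodComm R (Fin r → R) R).trans (Fin.consLinearEquiv R fun _ => R)))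
    refine ⟨(exteriorPower.map (m + r + 1) e.toLinearMap).comp ((up R _ (m + r)).comp i),
      p.comp ((down R _ (m + r)).comp (exteriorPower.map (m + r + 1) e.symm.toLinearMap)), ?_⟩
    refine LinearMap.ext fun x => ?_
    have h1 := LinearMap.congr_fun (exteriorPower.map_comp (n := m + r + 1) e.toLinearMap e.symm.toLinearMap)
      (up R _ (m + r) (i x))
    simp only [LinearMap.comp_apply, LinearMap.id_apply] at h1 ⊢
    rw [← h1, LinearEquiv.symm_comp, exteriorPower.map_id, LinearMap.id_apply]
    have h2 := LinearMap.congr_fun (down_up R (M × (Fin r → R)) (m + r)) (i x)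
    simp only [LinearMap.comp_apply, LinearMap.id_apply] at h2
    rw [h2]
    exact LinearMap.congr_fun hpi x

/-- The top exterior power of a free module. -/
theorem top_free {Q : Type u} [AddCommGroup Q] [Module R Q] {n : ℕ} (b : Module.Basis (Fin n) R Q) :
    Nonempty (⋀[R]^n Q ≃ₗ[R] R) := by
  have hsub : Subsingleton (Set.powersetCard (Fin n) n) := ⟨fun a b => Subtype.ext <| by
    have ha := (Finset.card_eq_iff_eq_univ (a : Finset (Fin n))).mp (a.2.trans (Fintype.card_fin n).symm)
    have hb := (Finset.card_eq_iff_eq_univ (b : Finset (Fin n))).mp (b.2.trans (Fintype.card_fin n).symm)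
    exact ha.trans hb.symm⟩
  have hne : Nonempty (Set.powersetCard (Fin n) n) :=
    ⟨⟨Finset.univ, by simp [Set.powersetCard]⟩⟩
  obtain ⟨a⟩ := hne
  exact ⟨(b.exteriorPower n).repr.trans (Finsupp.uniqueLinearEquiv R R a)⟩

theorem not_top_of_rank {m r : ℕ} (e : (M × (Fin r → R)) ≃ₗ[R] (Fin (m + r) → R)) (𝔪 : Ideal R) [𝔪.IsMaximal] :
    ¬ ∀ x : ⋀[R]^m M, x ∈ 𝔪 • (⊤ : Submodule R (⋀[R]^m M)) := by
  classical
  letI : Field (R ⧸ 𝔪) := Ideal.Quotient.field 𝔪
  let κ := R ⧸ 𝔪
  let e' : ((κ ⊗[R] M) × (κ ⊗[R] (Fin r → R))) ≃ₗ[κ] (κ ⊗[R] (Fin (m + r) → R)) :=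
    (TensorProduct.prodRight R κ κ M (Fin r → R)).symm.trans (LinearEquiv.baseChange R κ _ _ e)
  let b₁ := (Pi.basisFun R (Fin r)).baseChange κ
  let b₂ := (Pi.basisFun R (Fin (m + r))).baseChange κ
  haveI : FiniteDimensional κ (κ ⊗[R] (Fin (m + r) → R)) := Module.Finite.of_basis b₂
  haveI : FiniteDimensional κ ((κ ⊗[R] M) × (κ ⊗[R] (Fin r → R))) := Module.Finite.equiv e'.symm
  haveI : FiniteDimensional κ (κ ⊗[R] M) :=
    Module.Finite.of_surjective (LinearMap.fst κ (κ ⊗[R] M) (κ ⊗[R] (Fin r → R))) Prod.fst_surjective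
  haveI : FiniteDimensional κ (κ ⊗[R] (Fin r → R)) := Module.Finite.of_basis b₁
  have hd : Module.finrank κ (κ ⊗[R] M) = m := by
    have := e'.finrank_eq
    rw [Module.finrank_prod, Module.finrank_eq_card_basis b₁, Module.finrank_eq_card_basis b₂,
      Fintype.card_fin, Fintype.card_fin] at this
    omega
  let b := Module.finBasisOfFinrankEq κ _ hd
  let f : M →ₗ[R] κ ⊗[R] M := TensorProduct.mk R κ M 1
  have hf : Function.Surjective f := TensorProduct.mk_surjective R M κ Ideal.Quotient.mk_surjective
  let alt : M [⋀^Fin m]→ₗ[R] κ :=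
    { toFun := fun v => b.det (f ∘ v)
      map_update_add' := fun v i x y => by
        simp only [Function.comp_update, map_add]
        convert b.det.map_update_add (f ∘ v) i (f x) (f y)
      map_update_smul' := fun v i c x => by
        simp only [Function.comp_update, map_smul]
        rw [← algebraMap_smul κ c (f x)]
        refine Eq.trans ?_ (algebraMap_smul κ c _)
        convert b.det.map_update_smul (f ∘ v) i (algebraMap R κ c) (f x)
      map_eq_zero_of_eq' := fun v i j h hij => b.det.map_eq_zero_of_eq _ (congrArg f h) hij }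
  let g := exteriorPower.alternatingMapLinearEquiv alt
  choose x hx using hf
  intro hall
  have h1 : g (exteriorPower.ιMulti R m fun i => x (b i)) = 1 := by
    rw [exteriorPower.alternatingMapLinearEquiv_apply_ιMulti]
    show b.det (f ∘ fun i => x (b i)) = 1
    rw [show (f ∘ fun i => x (b i)) = b from funext fun i => hx _]
    exact b.det_self
  have h0 : ∀ z ∈ 𝔪 • (⊤ : Submodule R (⋀[R]^m M)), g z = 0 := by
    intro z hz
    refine Submodule.smul_induction_on hz (fun a ha w _ => ?_) (fun p q hp hq => ?_)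
    · rw [map_smul, Algebra.smul_def, Ideal.Quotient.algebraMap_eq, Ideal.Quotient.eq_zero_iff_mem.mpr ha, zero_mul]
    · rw [map_add, hp, hq, add_zero]
  rw [h0 _ (hall _)] at h1
  exact zero_ne_one h1

theorem det_stably_free {m r : ℕ} (e : (M × (Fin r → R)) ≃ₗ[R] (Fin (m + r) → R)) :
    Nonempty (⋀[R]^m M ≃ₗ[R] R) := by
  obtain ⟨i, p, hpi⟩ := exists_retract_prod R M m r
  obtain ⟨t⟩ := top_free R ((Pi.basisFun R (Fin (m + r))).map e.symm)
  let j : ⋀[R]^m M →ₗ[R] R := t.toLinearMap.comp i
  have hleft : ∀ x, (p.comp t.symm.toLinearMap) (j x) = x := fun x => by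
    simp only [j, LinearMap.comp_apply, LinearEquiv.coe_coe, LinearEquiv.symm_apply_apply]
    exact LinearMap.congr_fun hpi x
  refine ⟨LinearEquiv.ofBijective j ⟨Function.LeftInverse.injective hleft, LinearMap.range_eq_top.mp ?_⟩⟩
  by_contra hne
  obtain ⟨𝔪, h𝔪, hle⟩ := Ideal.exists_le_maximal _ hne
  refine not_top_of_rank R M e 𝔪 fun x => ?_
  rw [← hleft x, show j x = j x • (1 : R) by simp, map_smul]
  exact Submodule.smul_mem_smul (hle ⟨x, rfl⟩) Submodule.mem_top

end Retract

section Cotangent

open Groth.Agent.Lib.GrCI62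

variable {A : Type u} [CommRing A] {r : ℕ} {F : Fin r → A}

theorem coeff_mem_of_sum_eq_zero (hreg : Reg F) :
    ∀ i : ℕ, i ≤ r → ∀ a : Fin r → A, (∀ j : Fin r, i ≤ (j : ℕ) → a j = 0) → ∑ j, a j * F j = 0 →
      ∀ j, a j ∈ Ideal.span (Set.range F) := by
  classical
  intro i
  induction i with
  | zero => intro _ a ha _ j; rw [ha j (Nat.zero_le _)]; exact zero_mem _
  | succ i ih =>
    intro hi a ha hsum
    let l : Fin r := ⟨i, hi⟩
    have hsplit := Finset.add_sum_erase Finset.univ (fun j => a j * F j) (Finset.mem_univ l)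
    have hmem : a l * F l ∈ pre F i := by
      rw [show a l * F l = -∑ j ∈ Finset.univ.erase l, a j * F j by linear_combination hsplit + hsum]
      refine neg_mem (Submodule.sum_mem _ fun j hj => ?_)
      rcases Nat.lt_or_ge (j : ℕ) i with h | h
      · exact Ideal.mul_mem_left _ _ (mem_pre F h)
      · rw [ha j (by
          have : (j : ℕ) ≠ i := fun e => Finset.ne_of_mem_erase hj (Fin.ext e)
          omega), zero_mul]
        exact zero_mem _
    have hal : a l ∈ pre F i := hreg l (a l) hmem
    rw [pre, Ideal.span, Finsupp.mem_span_image_iff_linearCombination] at hal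
    obtain ⟨c, hc, hceq⟩ := hal
    rw [Finsupp.mem_supported'] at hc
    rw [Finsupp.linearCombination_apply, Finsupp.sum_fintype _ (fun j a => a • F j) (fun _ => zero_smul A _)] at hceq
    let a' : Fin r → A := fun j => (if j = l then 0 else a j) + c j * F l
    have hcl : c l = 0 := hc l (by simp [l])
    have hcz : ∀ j : Fin r, i ≤ (j : ℕ) → c j = 0 := fun j hj => hc j (by simp only [Set.mem_ofPred_eq]; omega)
    have hsum' : ∑ j, a' j * F j = 0 := by
      simp only [a', add_mul, Finset.sum_add_distrib, ite_mul, zero_mul]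
      have e1 : ∑ j, (if j = l then 0 else a j * F j) = ∑ j ∈ Finset.univ.erase l, a j * F j := by
        rw [← Finset.add_sum_erase _ _ (Finset.mem_univ l), if_pos rfl, zero_add]
        exact Finset.sum_congr rfl fun j hj => if_neg (Finset.ne_of_mem_erase hj)
      have e2 : ∑ j, c j * F l * F j = a l * F l := by
        rw [← hceq, Finset.sum_mul]
        exact Finset.sum_congr rfl fun j _ => by rw [smul_eq_mul]; ring
      rw [e1, e2]
      linear_combination hsplit + hsum
    have h0 := ih (Nat.le_of_succ_le hi) a' (fun j hj => by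
      simp only [a', hcz j hj, zero_mul, add_zero]
      split_ifs with hjl
      · rfl
      · exact ha j (by
          have : (j : ℕ) ≠ i := fun e => hjl (Fin.ext e)
          omega)) hsum'
    intro j
    by_cases hjl : j = l
    · rw [hjl]; exact pre_le F (hreg l (a l) hmem)
    · have := h0 j
      simp only [a', if_neg hjl] at this
      simpa using sub_mem this (Ideal.mul_mem_left _ (c j) (Ideal.subset_span ⟨l, rfl⟩))

theorem exists_cotangent_equiv (hreg : Reg F) (I J : Ideal A) (hI : I = Ideal.span (Set.range F)) (hJ : J = I) :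
    Nonempty (J.Cotangent ≃ₗ[A] (Fin r → A ⧸ I)) := by
  classical
  subst hI
  subst J
  let v : Fin r → (Ideal.span (Set.range F)).Cotangent := fun j =>
    Ideal.toCotangent _ (⟨F j, Ideal.subset_span ⟨j, rfl⟩⟩ : (Ideal.span (Set.range F) : Ideal A))
  let Φ : (Fin r → A) →ₗ[A] (Ideal.span (Set.range F)).Cotangent := Fintype.linearCombination A v
  have hΦ : ∀ a : Fin r → A, Φ a = Ideal.toCotangent _ (⟨∑ j, a j * F j,
      Submodule.sum_mem _ fun j _ => Ideal.mul_mem_left _ _ (Ideal.subset_span ⟨j, rfl⟩)⟩ :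
        (Ideal.span (Set.range F) : Ideal A)) := by
    intro a
    simp only [Φ, v, Fintype.linearCombination_apply, ← map_smul, ← map_sum]
    congr 1
    exact Subtype.ext (by simp)
  have hsurj : Function.Surjective Φ := by
    intro y
    obtain ⟨⟨x, hx⟩, rfl⟩ := Ideal.toCotangent_surjective _ y
    obtain ⟨a, ha⟩ := (Submodule.mem_span_range_iff_exists_fun A).mp hx
    refine ⟨a, ?_⟩
    rw [hΦ]
    congr 1
    exact Subtype.ext (by simpa using ha)
  let q : (Fin r → A) →ₗ[A] (Fin r → A ⧸ Ideal.span (Set.range F)) :=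
    LinearMap.pi fun j => (Submodule.mkQ (Ideal.span (Set.range F))).comp (LinearMap.proj j)
  have hq : Function.Surjective q := fun y => by
    choose a ha using fun j => Ideal.Quotient.mk_surjective (y j)
    exact ⟨a, funext ha⟩
  have hker : LinearMap.ker Φ = LinearMap.ker q := by
    ext a
    rw [LinearMap.mem_ker, LinearMap.mem_ker, hΦ, Ideal.toCotangent_eq_zero]
    show (∑ j, a j * F j) ∈ _ ↔ _
    constructor
    · intro h
      rw [pow_two] at h
      have hb : ∀ z ∈ Ideal.span (Set.range F) * Ideal.span (Set.range F), ∃ b : Fin r → A,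
          (∀ j, b j ∈ Ideal.span (Set.range F)) ∧ z = ∑ j, b j * F j := by
        intro z hz
        refine Submodule.mul_induction_on hz (fun x hx y hy => ?_) (fun x y hx hy => ?_)
        · obtain ⟨c, hc⟩ := (Submodule.mem_span_range_iff_exists_fun A).mp hy
          refine ⟨fun j => x * c j, fun j => Ideal.mul_mem_right _ _ hx, ?_⟩
          rw [← hc, Finset.mul_sum]
          exact Finset.sum_congr rfl fun j _ => by rw [smul_eq_mul, mul_assoc]
        · obtain ⟨b, hb, rfl⟩ := hx
          obtain ⟨c, hc, rfl⟩ := hy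
          exact ⟨b + c, fun j => add_mem (hb j) (hc j), by simp [add_mul, Finset.sum_add_distrib]⟩
      obtain ⟨b, hb, hab⟩ := hb _ h
      have h0 := coeff_mem_of_sum_eq_zero hreg r le_rfl (fun j => a j - b j)
        (fun j hj => absurd j.2 (by omega)) (by simp [sub_mul, Finset.sum_sub_distrib, hab])
      funext j
      exact Ideal.Quotient.eq_zero_iff_mem.mpr (by simpa using add_mem (h0 j) (hb j))
    · intro h
      rw [pow_two]
      exact Submodule.sum_mem _ fun j _ => Ideal.mul_mem_mul
        (Ideal.Quotient.eq_zero_iff_mem.mp (congrFun h j)) (Ideal.subset_span ⟨j, rfl⟩)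
  exact ⟨(Φ.quotKerEquivOfSurjective hsurj).symm.trans
    ((Submodule.quotEquivOfEq _ _ hker).trans (q.quotKerEquivOfSurjective hq))⟩

end Cotangent

end Groth.Agent.Lib.Det62
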